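import Mathlib.AlgebraicTopology.SimplicialObject.Coskeletal
import Mathlib.CategoryTheory.Limits.Shapes.FiniteLimits
import Mathlib.CategoryTheory.Functor.KanExtension.Pointwise
import Mathlib.Data.Fintype.Sigma
import Mathlib.Data.Finite.Sigma

/-! # Coskeletal simplicial objects with finite limits -/

set_option autoImplicit false

universe v u

open CategoryTheory CategoryTheory.Limits Opposite SimplicialObject

namespace GrothLib.CoskFin25

instance finite_truncated (n : ℕ) : Finite (SimplexCategory.Truncated n) :=
  Finite.of_injective (β := Fin (n + 1)) (fun X => ⟨X.obj.len, Nat.lt_succ_of_le X.property⟩) fun X Y h => by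
    exact ObjectProperty.FullSubcategory.ext (SimplexCategory.ext (congrArg Fin.val h))

instance finite_simplexHom (a b : SimplexCategory) : Finite (a ⟶ b) :=
  Finite.of_injective (β := Fin (a.len + 1) → Fin (b.len + 1)) (fun f => f.toOrderHom) fun f g h =>
    SimplexCategory.Hom.ext _ _ (OrderHom.ext _ _ h)

instance finite_structuredArrow (n : ℕ) (k : SimplexCategoryᵒᵖ) :
    Finite (StructuredArrow k (SimplexCategory.Truncated.inclusion n).op) :=
  Finite.of_injective (β := Σ j : SimplexCategory.Truncated n, (j.obj ⟶ k.unop))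
    (fun A => ⟨A.right.unop, A.hom.unop⟩) fun A B h => by
      obtain ⟨h₁, h₂⟩ := Sigma.mk.inj h
      rcases A with ⟨⟨⟨⟩⟩, a, fa⟩
      rcases B with ⟨⟨⟨⟩⟩, b, fb⟩
      obtain rfl : a = b := Opposite.unop_injective h₁
      obtain rfl : fa = fb := Quiver.Hom.unop_inj (eq_of_heq h₂)
      rfl

noncomputable instance finCat (n : ℕ) (k : SimplexCategoryᵒᵖ) :
    FinCategory (StructuredArrow k (SimplexCategory.Truncated.inclusion n).op) where
  fintypeObj := Fintype.ofFinite _
  fintypeHom A B :=
    have : Finite (A.right ⟶ B.right) :=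
      Finite.of_injective (β := (B.right.unop.obj ⟶ A.right.unop.obj)) (fun f => f.unop.hom) fun f g h =>
        Quiver.Hom.unop_inj (ObjectProperty.hom_ext _ h)
    have : Finite (A ⟶ B) := Finite.of_injective (fun f => f.right) fun f g h => StructuredArrow.ext _ _ h
    Fintype.ofFinite _

theorem hasPointwiseRightKanExtension {C : Type u} [Category.{v} C] [HasFiniteLimits C] (n : ℕ)
    (F : (SimplexCategory.Truncated n)ᵒᵖ ⥤ C) :
    (SimplexCategory.Truncated.inclusion n).op.HasPointwiseRightKanExtension F :=
  fun _ => inferInstance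

theorem isCoskeletal_of_le {C : Type u} [Category.{v} C] [HasFiniteLimits C] (U : SimplicialObject C)
    {n m : ℕ} (h : n ≤ m) [U.IsCoskeletal n] : U.IsCoskeletal m := by
  have := hasPointwiseRightKanExtension n ((SimplexCategory.Truncated.inclusion n).op ⋙ U)
  let hp := Functor.isPointwiseRightKanExtensionOfIsRightKanExtension U
    (𝟙 ((SimplexCategory.Truncated.inclusion n).op ⋙ U))
  have hsep : ∀ (k : SimplexCategoryᵒᵖ) (W : C) (a b : W ⟶ U.obj k),
      (∀ (j : SimplexCategory.Truncated n) (f : k ⟶ op j.obj), a ≫ U.map f = b ≫ U.map f) → a = b := by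
    intro k W a b hab
    refine (hp k).hom_ext fun j => ?_
    have hj := hab j.right.unop j.hom
    change a ≫ U.map j.hom ≫ 𝟙 _ = b ≫ U.map j.hom ≫ 𝟙 _
    rw [← Category.assoc, ← Category.assoc]
    exact congrArg (· ≫ 𝟙 _) hj
  let jm : SimplexCategory.Truncated n → SimplexCategory.Truncated m := fun j => ⟨j.obj, j.property.trans h⟩
  let β : ∀ E : (SimplexCategory.Truncated.inclusion m).op.RightExtension ((SimplexCategory.Truncated.inclusion m).op ⋙ U),
      (SimplexCategory.Truncated.inclusion n).op ⋙ E.left ⟶ (SimplexCategory.Truncated.inclusion n).op ⋙ U := fun E =>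
      { app := fun j => E.hom.app (op (jm j.unop))
        naturality := fun j j' f => by
          exact E.hom.naturality (X := op (jm j.unop)) (Y := op (jm j'.unop)) (ObjectProperty.homMk f.unop.hom : jm j'.unop ⟶ jm j.unop).op }
  refine ⟨⟨Nonempty.intro (Limits.IsTerminal.ofUniqueHom (fun E => ?_) (fun E φ => ?_))⟩⟩
  · let φ := U.liftOfIsRightKanExtension (𝟙 ((SimplexCategory.Truncated.inclusion n).op ⋙ U)) E.left (β E)
    refine CostructuredArrow.homMk φ ?_
    ext k
    simp only [Functor.RightExtension.mk, NatTrans.comp_app]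
    refine (Category.comp_id _).trans (hsep _ _ _ _ fun j f => ?_)
    have hj := U.liftOfIsRightKanExtension_fac_app (𝟙 ((SimplexCategory.Truncated.inclusion n).op ⋙ U)) E.left (β E) (op j)
    simp only [NatTrans.id_app] at hj
    have hj' : φ.app (op j.obj) = E.hom.app (op (jm j)) := (Category.comp_id _).symm.trans hj
    refine (φ.naturality f).symm.trans ?_
    rw [hj']
    exact (E.hom.naturality (X := k) (Y := op (jm j))
      ((ObjectProperty.homMk f.unop : jm j ⟶ k.unop)).op)
  · refine CostructuredArrow.hom_ext _ _ (U.hom_ext_of_isRightKanExtension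
      (𝟙 ((SimplexCategory.Truncated.inclusion n).op ⋙ U)) _ _ ?_)
    ext j
    have hφ := NatTrans.congr_app (CostructuredArrow.w φ) (op (⟨j.unop.obj, j.unop.property.trans h⟩))
    simp only [Functor.RightExtension.mk] at hφ
    have hφ' : φ.left.app (op j.unop.obj) = E.hom.app (op ⟨j.unop.obj, j.unop.property.trans h⟩) :=
      (Category.comp_id _).symm.trans hφ
    refine (Category.comp_id _).trans (hφ'.trans ?_)
    have key : ∀ (β' : (SimplexCategory.Truncated.inclusion n).op ⋙ E.left ⟶ (SimplexCategory.Truncated.inclusion n).op ⋙ U),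
        β'.app j = (U.liftOfIsRightKanExtension (𝟙 ((SimplexCategory.Truncated.inclusion n).op ⋙ U)) E.left β').app
          (op j.unop.obj) := fun β' =>
      ((Category.comp_id _).symm.trans (U.liftOfIsRightKanExtension_fac_app _ E.left β' j)).symm
    exact (key (β E)).trans (Category.comp_id _).symm

end GrothLib.CoskFin25
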